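import Groth.Agent.Lib.PropH0.EtH0
import Groth.Agent.Lib.PropH0.TopSheaf
import Groth.Agent.S7382
import Mathlib.Topology.Sheaves.LocalPredicate
import Mathlib.AlgebraicGeometry.AffineTransitionLimit

/-!
# Gabber's criterion for global sections on a closed subscheme
-/

set_option autoImplicit false
set_option backward.isDefEq.respectTransparency false
universe u

open CategoryTheory CategoryTheory.Limits AlgebraicGeometry Opposite TopologicalSpace

noncomputable section

namespace GrothLib.GabberCrit9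

open GrothLib.PropH0

/-- If restriction of global sections to `Z` is bijective for all sheaves of sets, `Z` is connected. -/
theorem isConnected_of_bijective {X : TopCat.{u}} [PreconnectedSpace X] [Nonempty X] (Z : Set X)
    (h : ∀ F : TopCat.Sheaf (Type u) X, Function.Bijective
      (((TopCat.Sheaf.pullbackPushforwardAdjunction (Type u)
        (TopCat.ofHom ⟨(Subtype.val : Z → X), continuous_subtype_val⟩)).unit.app F).hom.app (op ⊤))) :
    _root_.IsConnected Z := by
  classical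
  let f : TopCat.of Z ⟶ X := TopCat.ofHom ⟨(Subtype.val : Z → X), continuous_subtype_val⟩
  let T : TopCat.{u} := TopCat.of (ULift.{u} Bool)
  let F : TopCat.Sheaf (Type u) X := TopCat.sheafToTop T
  let G := (TopCat.Sheaf.pullback (Type u) f).obj F
  let η := (TopCat.Sheaf.pullbackPushforwardAdjunction (Type u) f).unit.app F
  let e : Bool → F.obj.obj (op ⊤) := fun b => TopCat.ofHom ⟨fun _ => (ULift.up b : ULift.{u} Bool), continuous_const⟩
  let val : ∀ (W : Opens X), F.obj.obj (op W) → W → Bool := fun W t x =>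
    ((show TopCat.of W ⟶ T from t).hom x : ULift.{u} Bool).down
  have hne : Z.Nonempty := by
    by_contra hz
    rw [Set.not_nonempty_iff_eq_empty] at hz
    have h1 : η.hom.app (op ⊤) (e true) = η.hom.app (op ⊤) (e false) :=
      TopCat.Presheaf.section_ext G ((Opens.map f).obj ⊤) _ _ fun x _ =>
        absurd x.2 (Set.eq_empty_iff_forall_notMem.1 hz _)
    obtain ⟨x⟩ := ‹Nonempty X›
    have := congrArg (fun t => val ⊤ t ⟨x, trivial⟩) ((h F).1 h1)
    exact Bool.noConfusion (show true = false from this)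
  refine ⟨hne, isPreconnected_closed_iff.2 fun C C' hC hC' hsub hA hB => ?_⟩
  by_contra hd
  have hCC : ∀ z ∈ Z, z ∈ C → z ∉ C' := fun z hz h1 h2 => hd ⟨z, hz, h1, h2⟩
  let U : Bool → Opens (TopCat.of Z) := fun b => if b
    then ⟨(Subtype.val ⁻¹' C')ᶜ, (hC'.preimage continuous_subtype_val).isOpen_compl⟩
    else ⟨(Subtype.val ⁻¹' C)ᶜ, (hC.preimage continuous_subtype_val).isOpen_compl⟩
  have hU : ∀ (b : Bool) (z : Z), z ∈ U b ↔ (z : X) ∈ (if b then C else C') := by
    rintro (_ | _) z <;> constructor <;> intro hz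
    · exact (hsub z.2).resolve_left hz
    · exact fun h1 => hCC _ z.2 h1 hz
    · exact (hsub z.2).resolve_right hz
    · exact hCC _ z.2 hz
  let sf : ∀ b, G.obj.obj (op (U b)) := fun b =>
    G.obj.map (homOfLE (le_top : U b ≤ (Opens.map f).obj ⊤)).op (η.hom.app (op ⊤) (e b))
  have hcompat : TopCat.Presheaf.IsCompatible G.1 U sf := fun b b' => by
    rcases eq_or_ne b b' with rfl | hbb
    · rfl
    · refine TopCat.Presheaf.section_ext G _ _ _ fun z hz => ?_
      exfalso
      have h1 := (hU b z).1 hz.1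
      have h2 := (hU b' z).1 hz.2
      cases b <;> cases b' <;> first | exact hbb rfl | skip
      · exact hCC _ z.2 h2 h1
      · exact hCC _ z.2 h1 h2
  obtain ⟨s, hs, -⟩ := G.existsUnique_gluing' U ((Opens.map f).obj ⊤) (fun b => homOfLE le_top)
    (fun z _ => by
      rcases hsub z.2 with h1 | h1
      · exact Opens.mem_iSup.2 ⟨true, (hU true z).2 h1⟩
      · exact Opens.mem_iSup.2 ⟨false, (hU false z).2 h1⟩) sf hcompat
  obtain ⟨t, ht⟩ := (h F).2 s
  have hconst : ∀ x y : X, val ⊤ t ⟨x, trivial⟩ = val ⊤ t ⟨y, trivial⟩ := by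
    intro x y
    refine PreconnectedSpace.constant inferInstance (f := fun x : X => val ⊤ t ⟨x, trivial⟩) ?_
    exact (continuous_uliftDown.comp (show TopCat.of (⊤ : Opens X) ⟶ T from t).hom.continuous).comp
      (continuous_id.subtype_mk _)
  have key : ∀ (b : Bool) (z : Z), (z : X) ∈ (if b then C else C') → val ⊤ t ⟨z, trivial⟩ = b := by
    intro b z hz
    have hzU := (hU b z).2 hz
    have hzt : z ∈ (Opens.map f).obj ⊤ := Set.mem_univ _
    have h1 : G.presheaf.germ ((Opens.map f).obj ⊤) z hzt (η.hom.app (op ⊤) t) =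
        G.presheaf.germ ((Opens.map f).obj ⊤) z hzt (η.hom.app (op ⊤) (e b)) :=
      (congrArg (fun u => G.presheaf.germ ((Opens.map f).obj ⊤) z hzt u) ht).trans
        ((TopCat.Presheaf.germ_res_apply G.presheaf (homOfLE (le_top : U b ≤ (Opens.map f).obj ⊤)) z hzU s).symm.trans
          ((congrArg (fun u => G.presheaf.germ (U b) z hzU u) (hs b)).trans
            (TopCat.Presheaf.germ_res_apply G.presheaf (homOfLE (le_top : U b ≤ (Opens.map f).obj ⊤)) z hzU
              (η.hom.app (op ⊤) (e b)))))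
    have h2 := (bijective_unitStalk f F z).1
      ((unitStalk_germ f F z ⊤ trivial t).trans (h1.trans (unitStalk_germ f F z ⊤ trivial (e b)).symm))
    obtain ⟨W, hzW, i₁, i₂, hW⟩ := TopCat.Presheaf.germ_eq F.presheaf (U := ⊤) (V := ⊤) (z : X) trivial trivial _ _ h2
    exact congrArg (fun u => val W u ⟨z, hzW⟩) hW
  obtain ⟨a, haZ, haC⟩ := hA
  obtain ⟨b, hbZ, hbC⟩ := hB
  exact absurd (((key true ⟨a, haZ⟩ haC).symm.trans (hconst a b)).trans (key false ⟨b, hbZ⟩ hbC)) (by simp)

/-- Connectedness on integral schemes from bijectivity on finite ones. -/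
theorem connOnIntegral_of_finite {Z X : Scheme.{u}} [CompactSpace X] [QuasiSeparatedSpace X]
    (i : Z ⟶ X) [IsClosedImmersion i]
    (h2 : ∀ (X' : Scheme.{u}) (π : X' ⟶ X) [IsFinite π] (F : TopCat.Sheaf (Type u) X'.carrier),
      Function.Bijective
      (((TopCat.Sheaf.pullbackPushforwardAdjunction (Type u)
        (TopCat.ofHom ⟨(Subtype.val : (Set.range (pullback.snd i π)) → X'), continuous_subtype_val⟩)).unit.app F).hom.app (op ⊤))) :
    ConnOnIntegral i := by
  have hfin : ∀ (X' : Scheme.{u}) (π : X' ⟶ X) [IsFinite π] [IrreducibleSpace X'],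
      _root_.IsConnected (π.base ⁻¹' Set.range i.base) := fun X' π _ _ => by
    rw [← Scheme.Pullback.range_snd]
    exact isConnected_of_bijective (X := X'.carrier) _ (h2 X' π)
  intro Y ν _ _
  obtain ⟨I, _, _, _, D, c, hc, hD, ⟨eY⟩⟩ := Groth.Agent.S7382.result ν
  haveI : IsCofiltered Iᵒᵖ := inferInstance
  haveI : ∀ {a b : Iᵒᵖ} (φ : a ⟶ b), IsAffineHom ((D ⋙ Over.forget X).map φ) := fun {a b} φ => by
    haveI := (hD a).1
    haveI := (hD b).1
    haveI : IsAffineHom ((D.map φ).left ≫ (D.obj b).hom) := by rw [Over.w]; infer_instance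
    exact IsAffineHom.of_comp (D.map φ).left (D.obj b).hom
  let c' : Limits.Cone (D ⋙ Over.forget X) := (Over.forget X).mapCone c
  have hc' : IsLimit c' := isLimitOfPreserves _ hc
  let T := ν.base ⁻¹' Set.range i.base
  have hT : IsClosed T := (i.isClosedEmbedding.isClosed_range).preimage ν.continuous
  -- the image of `Y` in a stage
  have stage : ∀ j : Iᵒᵖ, ∃ (p : Y ⟶ (D.obj j).left), p = eY.inv.left ≫ (c.π.app j).left ∧
      p ≫ (D.obj j).hom = ν ∧ IsClosedMap p.base ∧
      _root_.IsConnected (Set.range p.base ∩ (D.obj j).hom.base ⁻¹' Set.range i.base) := by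
    intro j
    haveI := (hD j).1
    let p := eY.inv.left ≫ (c.π.app j).left
    have hp : p ≫ (D.obj j).hom = ν := by
      simp only [p, Category.assoc, Over.w]
      exact (Over.w eY.inv : _)
    haveI : IsIntegralHom (p ≫ (D.obj j).hom) := by rw [hp]; infer_instance
    haveI : IsIntegralHom p := IsIntegralHom.of_comp p (D.obj j).hom
    have hW : IsIrreducible (Set.range p.base) := by
      rw [← Set.image_univ]
      exact (IrreducibleSpace.isIrreducible_univ Y).image _ p.continuous.continuousOn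
    obtain ⟨X', g, hg, hX', hgr⟩ := exists_irreducible_subscheme hW p.isClosedMap.isClosed_range
    refine ⟨p, rfl, hp, p.isClosedMap, ?_⟩
    have := (hfin X' (g ≫ (D.obj j).hom)).image g.base g.continuous.continuousOn
    convert this using 1
    ext w
    constructor
    · rintro ⟨hw1, hw⟩
      obtain ⟨x, rfl⟩ := hgr.symm.subset hw1
      exact ⟨x, hw, rfl⟩
    · rintro ⟨x, hx, rfl⟩
      exact ⟨hgr.subset ⟨x, rfl⟩, hx⟩
  have hne : T.Nonempty := by
    obtain ⟨j⟩ : Nonempty Iᵒᵖ := inferInstance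
    obtain ⟨p, -, hp, -, hconn⟩ := stage j
    obtain ⟨_, ⟨y, rfl⟩, hy⟩ := hconn.nonempty
    exact ⟨y, by simp only [T, Set.mem_preimage]; rw [← hp]; exact hy⟩
  refine ⟨hne, isPreconnected_closed_iff.2 fun C C' hC hC' hsub hA hB => ?_⟩
  by_contra hd
  haveI : CompactSpace Y := QuasiCompact.compactSpace_of_compactSpace ν
  -- a quasi-compact open around `C ∩ T` avoiding `C' ∩ T`
  have hdis : C ∩ T ⊆ (C' ∩ T)ᶜ := fun y hy hy' => hd ⟨y, hy.2, hy.1, hy'.1⟩
  obtain ⟨U, hUc, hAU, hUB⟩ : ∃ U : Y.Opens, IsCompact (U : Set Y) ∧ C ∩ T ⊆ U ∧ (U : Set Y) ⊆ (C' ∩ T)ᶜ := by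
    obtain ⟨V, hV, hV', h1, h2⟩ := PrespectralSpace.exists_isCompact_and_isOpen_between
      (hC.inter hT).isCompact (hC'.inter hT).isOpen_compl hdis
    exact ⟨⟨V, hV'⟩, hV, h1, h2⟩
  let cpt : c'.pt ⟶ Y := eY.hom.left
  obtain ⟨j, V, -, hVU⟩ := exists_preimage_eq (D ⋙ Over.forget X) c' hc' (cpt ⁻¹ᵁ U)
    ((cpt.homeomorph).isCompact_preimage.2 hUc)
  obtain ⟨p, hpd, hp, hpc, hconn⟩ := stage j
  have hpre : ∀ y, p.base y ∈ V ↔ y ∈ U := fun y => by
    have e1 : p.base y = (c'.π.app j).base (eY.inv.left.base y) := by rw [hpd]; rfl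
    rw [e1]
    refine (SetLike.ext_iff.1 hVU (eY.inv.left.base y)).trans ?_
    show (eY.inv.left ≫ eY.hom.left).base y ∈ U ↔ _
    rw [← Over.comp_left, eY.inv_hom_id]
    rfl
  have hmem : ∀ y, p.base y ∈ (D.obj j).hom.base ⁻¹' Set.range i.base ↔ y ∈ T := fun y => by
    simp only [T, Set.mem_preimage]
    rw [← hp]
    exact Iff.rfl
  obtain ⟨a, haT, haC⟩ := hA
  obtain ⟨b, hbT, hbC⟩ := hB
  obtain ⟨w, -, ⟨y₁, hy₁, e₁⟩, y₂, hy₂, e₂⟩ := isPreconnected_closed_iff.1 hconn.isPreconnected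
    (p.base '' (C ∩ T)) (p.base '' (C' ∩ T)) (hpc _ (hC.inter hT)) (hpc _ (hC'.inter hT))
    (by
      rintro _ ⟨⟨y, rfl⟩, hy⟩
      rcases hsub ((hmem y).1 hy) with h | h
      · exact Or.inl ⟨y, ⟨h, (hmem y).1 hy⟩, rfl⟩
      · exact Or.inr ⟨y, ⟨h, (hmem y).1 hy⟩, rfl⟩)
    ⟨p.base a, ⟨⟨a, rfl⟩, (hmem a).2 haT⟩, a, ⟨haC, haT⟩, rfl⟩
    ⟨p.base b, ⟨⟨b, rfl⟩, (hmem b).2 hbT⟩, b, ⟨hbC, hbT⟩, rfl⟩
  refine hUB ((hpre y₂).1 ?_) hy₂
  rw [show p.base y₂ = p.base y₁ from e₂.trans e₁.symm]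
  exact (hpre y₁).2 (hAU hy₁)

end GrothLib.GabberCrit9
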